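import Groth.Agent.SHSplitLib.Alg
import Groth.Prelude.Def_Pi1

/-! # Covers split by the strict henselization come from the base -/

set_option autoImplicit false
set_option linter.style.haveILetI false
set_option backward.isDefEq.respectTransparency false
set_option backward.isDefEq.respectTransparency.types false
set_option maxHeartbeats 1000000

universe u

open CategoryTheory CategoryTheory.Limits AlgebraicGeometry
open scoped TensorProduct

noncomputable section

namespace SHSplit

/-- A split cover of the spectrum of a field gives a complete family of points. -/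
theorem exists_points {K L Q : Type u} [Field K] [Field L] [CommRing Q] [Algebra K L] [Algebra K Q]
    {P : Scheme.{u}} (ι : Type u) [Finite ι] (e : P ≅ ∐ fun _ : ι => Spec (CommRingCat.of L))
    (f : P ⟶ Spec (CommRingCat.of Q)) (g : P ⟶ Spec (CommRingCat.of L))
    (sq : IsPullback g f (Spec.map (CommRingCat.ofHom (algebraMap K L))) (Spec.map (CommRingCat.ofHom (algebraMap K Q))))
    (he : ∀ i, Sigma.ι (fun _ : ι => Spec (CommRingCat.of L)) i ≫ e.inv ≫ g = 𝟙 _) :
    ∃ σ : ι → Q →ₐ[K] L, Function.Bijective (evalMap (E := L) σ) := by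
  let s : ι → (Spec (CommRingCat.of L) ⟶ Spec (CommRingCat.of Q)) := fun i =>
    Sigma.ι (fun _ : ι => Spec (CommRingCat.of L)) i ≫ e.inv ≫ f
  have hs : ∀ i, s i ≫ Spec.map (CommRingCat.ofHom (algebraMap K Q)) = Spec.map (CommRingCat.ofHom (algebraMap K L)) :=
    fun i => by
      simp only [s, Category.assoc, ← sq.w]
      rw [← Category.assoc e.inv, ← Category.assoc, he, Category.id_comp]
  let σ : ι → Q →ₐ[K] L := fun i =>
    { toRingHom := (Spec.preimage (s i)).hom
      commutes' := fun c => by
        have h := hs i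
        rw [← Spec.map_preimage (s i), ← Spec.map_comp] at h
        exact RingHom.congr_fun (congrArg CommRingCat.Hom.hom (Spec.map_injective h)) c }
  have hσ : ∀ i, Spec.map (CommRingCat.ofHom (σ i).toRingHom) = s i := fun i => Spec.map_preimage (s i)
  refine ⟨σ, ?_⟩
  let ψ : CommRingCat.of (L ⊗[K] Q) ⟶ CommRingCat.of (ι → L) := CommRingCat.ofHom (evalMap (E := L) σ).toRingHom
  have key : sigmaSpec (fun _ : ι => CommRingCat.of L) ≫ Spec.map ψ ≫ (pullbackSpecIso K L Q).inv =
      e.inv ≫ sq.isoPullback.hom := by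
    refine Sigma.hom_ext _ _ fun i => ?_
    rw [ι_sigmaSpec_assoc, ← Spec.map_comp_assoc]
    apply pullback.hom_ext
    · simp only [Category.assoc, pullbackSpecIso_inv_fst, IsPullback.isoPullback_hom_fst, ← Spec.map_comp]
      rw [he i, ← Spec.map_id]
      refine congrArg Spec.map (CommRingCat.hom_ext (RingHom.ext fun l => ?_))
      show evalMap (E := L) σ (l ⊗ₜ 1) i = l
      simp [evalMap_tmul]
    · simp only [Category.assoc, pullbackSpecIso_inv_snd, IsPullback.isoPullback_hom_snd, ← Spec.map_comp]
      show _ = s i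
      rw [← hσ i]
      refine congrArg Spec.map (CommRingCat.hom_ext (RingHom.ext fun q => ?_))
      show evalMap (E := L) σ (1 ⊗ₜ q) i = σ i q
      simp [evalMap_tmul]
  have h : Spec.map ψ = inv (sigmaSpec (fun _ : ι => CommRingCat.of L)) ≫ e.inv ≫ sq.isoPullback.hom ≫
      (pullbackSpecIso K L Q).hom := by
    rw [IsIso.eq_inv_comp, ← Category.assoc e.inv, ← key]
    simp
  haveI : IsIso (Spec.map ψ) := by rw [h]; infer_instance
  exact (isIso_SpecMap_iff (f := ψ)).1 ‹IsIso (Spec.map ψ)›

/-- The generic fibre of the integral closure. -/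
theorem bijective_generic {A K Q : Type u} [CommRing A] [IsDomain A] [Field K] [Algebra A K] [IsFractionRing A K]
    [CommRing Q] [Algebra K Q] [Algebra A Q] [IsScalarTower A K Q] [Module.Finite K Q] :
    Function.Bijective (Algebra.TensorProduct.lift (S := A) (integralClosure A Q).val (IsScalarTower.toAlgHom A K Q)
      (fun _ _ => Commute.all _ _)) := by
  classical
  let ρ := Algebra.TensorProduct.lift (S := A) (integralClosure A Q).val (IsScalarTower.toAlgHom A K Q)
    (fun _ _ => Commute.all _ _)
  have hform : ∀ t : integralClosure A Q ⊗[A] K, ∃ b, ∃ a ∈ nonZeroDivisors A,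
      t = b ⊗ₜ (algebraMap A K a)⁻¹ := fun t => by
    induction t using TensorProduct.induction_on with
    | zero => exact ⟨0, 1, one_mem _, by simp⟩
    | tmul b k =>
      obtain ⟨x, y, hy, rfl⟩ := IsFractionRing.div_surjective (A := A) k
      refine ⟨x • b, y, hy, ?_⟩
      rw [TensorProduct.smul_tmul, Algebra.smul_def, div_eq_mul_inv]
    | add u v hu hv =>
      obtain ⟨b, y, hy, rfl⟩ := hu
      obtain ⟨b', y', hy', rfl⟩ := hv
      refine ⟨y' • b + y • b', y * y', mul_mem hy hy', ?_⟩
      have h0 := IsFractionRing.to_map_ne_zero_of_mem_nonZeroDivisors (K := K) hy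
      have h0' := IsFractionRing.to_map_ne_zero_of_mem_nonZeroDivisors (K := K) hy'
      rw [TensorProduct.add_tmul, TensorProduct.smul_tmul, TensorProduct.smul_tmul, Algebra.smul_def,
        Algebra.smul_def, map_mul]
      field_simp
  refine ⟨(injective_iff_map_eq_zero ρ).2 fun t ht => ?_, fun q => ?_⟩
  · obtain ⟨b, a, ha, rfl⟩ := hform t
    have h0 := IsFractionRing.to_map_ne_zero_of_mem_nonZeroDivisors (K := K) ha
    have hu : IsUnit (algebraMap K Q (algebraMap A K a)⁻¹) := (Ne.isUnit (inv_ne_zero h0)).map _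
    have hb : (b : Q) = 0 := hu.mul_left_eq_zero.1 (by
      simpa [ρ, IsScalarTower.coe_toAlgHom'] using ht)
    rw [show b = 0 from Subtype.ext hb, TensorProduct.zero_tmul]
  · obtain ⟨a, ha0, ha⟩ := ((IsFractionRing.isAlgebraic_iff A K Q).2
      (IsIntegral.of_finite K q).isAlgebraic).exists_integral_multiple
    refine ⟨⟨a • q, ha⟩ ⊗ₜ (algebraMap A K a)⁻¹, ?_⟩
    have h0 : algebraMap A K a ≠ 0 := by simpa [IsFractionRing.to_map_eq_zero_iff] using ha0
    show (a • q) * algebraMap K Q (algebraMap A K a)⁻¹ = q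
    rw [Algebra.smul_def, IsScalarTower.algebraMap_apply A K Q, mul_comm _ q, mul_assoc, ← map_mul,
      mul_inv_cancel₀ h0, map_one, mul_one]

theorem exists_cover (A : Type u) [CommRing A] [IsDomain A] [IsLocalRing A] [IsIntegrallyClosed A] (R : Type u)
    [CommRing R] [IsLocalRing R] [Algebra A R] [IsLocalHom (algebraMap A R)] [Hensel.IsStrictHenselization A R]
    (K L : Type u) [Field K] [Field L] [Algebra A K] [IsFractionRing A K] [Algebra R L] [IsFractionRing R L]
    [Algebra K L] [Algebra A L] [IsScalarTower A K L] [IsScalarTower A R L]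
    (V : FEt.Cat (Spec (CommRingCat.of K)))
    (hV : Pi1.IsSplit ((FEt.restrict (Spec.map (CommRingCat.ofHom (algebraMap K L)))).obj V)) :
    ∃ Y : FEt.Cat (Spec (CommRingCat.of A)),
      Nonempty ((FEt.restrict (Spec.map (CommRingCat.ofHom (algebraMap A K)))).obj Y ≅ V) := by
  let v : V.left ⟶ Spec (CommRingCat.of K) := V.hom
  haveI : IsFinite v := V.prop.1
  haveI : IsAffine V.left := isAffine_of_isAffineHom v
  let Q : Type u := Γ(V.left, ⊤)
  let v' : Spec (CommRingCat.of Q) ⟶ Spec (CommRingCat.of K) := V.left.isoSpec.inv ≫ v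
  letI : Algebra K Q := (Spec.preimage v').hom.toAlgebra
  have hv : Spec.map (CommRingCat.ofHom (algebraMap K Q)) = v' := Spec.map_preimage v'
  letI : Algebra A Q := ((algebraMap K Q).comp (algebraMap A K)).toAlgebra
  haveI : IsScalarTower A K Q := IsScalarTower.of_algebraMap_eq' rfl
  haveI : Module.Finite K Q := RingHom.finite_algebraMap.1 ((IsFinite.SpecMap_iff _).1
    (show IsFinite (Spec.map (CommRingCat.ofHom (algebraMap K Q))) by rw [hv]; infer_instance))
  obtain ⟨ι, hι, e, he⟩ := hV
  haveI := hι
  let g := Spec.map (CommRingCat.ofHom (algebraMap K L))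
  have sq : IsPullback (pullback.snd v g) (pullback.fst v g ≫ V.left.isoSpec.hom) g
      (Spec.map (CommRingCat.ofHom (algebraMap K Q))) := by
    rw [hv]
    exact (IsPullback.of_hasPullback v g).flip.of_iso (Iso.refl _) (Iso.refl _) V.left.isoSpec (Iso.refl _)
      (by simp) (by simp) (by simp) (by simp [v'])
  obtain ⟨σ, hσ⟩ := exists_points ι e _ _ sq he
  haveI : TensorProduct.CompatibleSMul A K L Q := IsLocalization.tensorProduct_compatibleSMul (nonZeroDivisors A) K L Q
  have hm : Function.Bijective (evalMap (E := L) fun i => (σ i).restrictScalars A) := by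
    let d := TensorProduct.equivOfCompatibleSMul K A A L Q
    convert hσ.comp d.bijective using 1
    funext t
    induction t using TensorProduct.induction_on with
    | zero => simp
    | tmul l q =>
      funext i
      simp only [Function.comp_apply, evalMap_tmul]
      show _ = evalMap (E := L) σ (l ⊗ₜ[K] q) i
      simp [evalMap_tmul]
    | add a b ha hb => simp only [Function.comp_apply, map_add] at ha hb ⊢; rw [ha, hb]
  obtain ⟨hfin, het⟩ := finite_etale_integralClosure R K L Q (fun i => (σ i).restrictScalars A) hm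
  let B := integralClosure A Q
  let y : Spec (CommRingCat.of B) ⟶ Spec (CommRingCat.of A) := Spec.map (CommRingCat.ofHom (algebraMap A B))
  refine ⟨MorphismProperty.Over.mk ⊤ y ⟨(IsFinite.SpecMap_iff _).2 (RingHom.finite_algebraMap.2 hfin),
    (HasRingHomProperty.Spec_iff (P := @Etale)).2 (RingHom.etale_algebraMap.2 het)⟩, ?_⟩
  let ρ : CommRingCat.of (B ⊗[A] K) ⟶ CommRingCat.of Q := CommRingCat.ofHom
    (Algebra.TensorProduct.lift (S := A) B.val (IsScalarTower.toAlgHom A K Q) (fun _ _ => Commute.all _ _)).toRingHom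
  haveI : IsIso ρ := (ConcreteCategory.isIso_iff_bijective ρ).2 bijective_generic
  refine ⟨MorphismProperty.Over.isoMk
    (pullbackSpecIso A B K ≪≫ (asIso (Spec.map ρ)).symm ≪≫ V.left.isoSpec.symm) ?_⟩
  show ((pullbackSpecIso A B K).hom ≫ inv (Spec.map ρ) ≫ V.left.isoSpec.inv) ≫ v = pullback.snd _ _
  rw [Category.assoc, Category.assoc, show V.left.isoSpec.inv ≫ v = v' from rfl, ← hv, ← pullbackSpecIso_hom_snd]
  congr 1
  rw [IsIso.inv_comp_eq, ← Spec.map_comp]
  refine congrArg Spec.map (CommRingCat.hom_ext (RingHom.ext fun c => ?_))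
  show algebraMap K Q c = Algebra.TensorProduct.lift (S := A) B.val (IsScalarTower.toAlgHom A K Q)
    (fun _ _ => Commute.all _ _) ((1 : B) ⊗ₜ[A] c)
  rw [Algebra.TensorProduct.lift_tmul]
  simp

end SHSplit

end
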