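import Groth.Agent.S2748
import Groth.Agent.S0539
import Groth.Agent.HenselBranchLib.EtaleNbhd
import Groth.Agent.HenselLib.Normal
import Mathlib.RingTheory.Smooth.IntegralClosure
import Mathlib.RingTheory.Etale.Descent
import Mathlib.RingTheory.Etale.Pi

/-! # Étale algebras over the fraction field split by a strict henselization -/

set_option autoImplicit false
set_option linter.style.haveILetI false
set_option backward.isDefEq.respectTransparency false
set_option backward.isDefEq.respectTransparency.types false
set_option maxHeartbeats 1000000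

universe u

open TensorProduct IsLocalRing

noncomputable section

namespace SHSplit

/-- The evaluation map attached to homomorphisms into a field. -/
def evalMap {A E L Q ι : Type u} [CommRing A] [CommRing E] [CommRing Q] [CommRing L] [Algebra A E] [Algebra A Q]
    [Algebra A L] [Algebra E L] [IsScalarTower A E L] (σ : ι → Q →ₐ[A] L) : E ⊗[A] Q →ₐ[E] (ι → L) :=
  Algebra.TensorProduct.lift (Algebra.ofId E _) (Pi.algHom A (fun _ => L) σ) fun _ _ => Commute.all _ _

theorem evalMap_tmul {A E L Q ι : Type u} [CommRing A] [CommRing E] [CommRing Q] [CommRing L] [Algebra A E]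
    [Algebra A Q] [Algebra A L] [Algebra E L] [IsScalarTower A E L] (σ : ι → Q →ₐ[A] L) (e : E) (q : Q) (i : ι) :
    evalMap σ (e ⊗ₜ q) i = algebraMap E L e * σ i q := by
  simp [evalMap]

variable {A : Type u} [CommRing A] [IsDomain A] {R : Type u} [CommRing R] [Algebra A R]
  (K L : Type u) [Field K] [Field L] [Algebra A K] [IsFractionRing A K] [Algebra R L]
  [Algebra K L] [Algebra A L] [IsScalarTower A K L] [IsScalarTower A R L]

/-- The product decomposition forced by a split neighbourhood. -/
theorem exists_iso_pi (E : Type u) [CommRing E] [IsDomain E] [Algebra A E] [IsIntegrallyClosed E] [Algebra E L]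
    [IsScalarTower A E L] (hinj : Function.Injective (algebraMap E L)) (halg : Algebra.IsAlgebraic A E)
    (Q ι : Type u) [CommRing Q] [Finite ι] [Algebra K Q] [Algebra A Q] [IsScalarTower A K Q]
    (σ : ι → Q →ₐ[A] L) (hΦ : Function.Injective (evalMap (E := L) σ)) (c : ι → Finset (L × Q))
    (hc : ∀ i, evalMap σ (∑ x ∈ c i, x.1 ⊗ₜ[A] x.2) = fun j => open scoped Classical in if j = i then 1 else 0)
    (hl : ∀ i, ∀ x ∈ c i, ∃ p q : E, algebraMap E L q ≠ 0 ∧ x.1 * algebraMap E L q = algebraMap E L p)
    (hσ : ∀ i (x : Q), ∃ p q : E, algebraMap E L q ≠ 0 ∧ σ i x * algebraMap E L q = algebraMap E L p) :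
    Nonempty (integralClosure E (E ⊗[A] Q) ≃ₐ[E] (ι → E)) := by
  classical
  haveI : Module.Flat A K := IsLocalization.flat K (nonZeroDivisors A)
  haveI : Module.Flat A Q := Module.Flat.trans A K Q
  let Φ := evalMap (E := E) σ
  have hΦi : Function.Injective Φ := by
    let m : E ⊗[A] Q →ₐ[A] L ⊗[A] Q :=
      Algebra.TensorProduct.map (IsScalarTower.toAlgHom A E L) (AlgHom.id A Q)
    have hm : Function.Injective m :=
      Module.Flat.rTensor_preserves_injective_linearMap (M := Q) (IsScalarTower.toAlgHom A E L).toLinearMap hinj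
    have e : ∀ t, Φ t = evalMap (E := L) σ (m t) := fun t => by
      induction t using TensorProduct.induction_on with
      | zero => simp
      | tmul a b => funext i; simp [Φ, m, evalMap_tmul]
      | add a b ha hb => simp [map_add, ha, hb]
    exact fun a b h => hm (hΦ (by rw [← e, ← e, h]))
  -- components are fractions
  have hfrac : ∀ t i, ∃ p q : E, algebraMap E L q ≠ 0 ∧ Φ t i * algebraMap E L q = algebraMap E L p := fun t i => by
    induction t using TensorProduct.induction_on with
    | zero => exact ⟨0, 1, by simp, by simp⟩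
    | tmul a b =>
      obtain ⟨p, q, hq, e⟩ := hσ i b
      exact ⟨a * p, q, hq, by rw [evalMap_tmul, mul_assoc, e, map_mul]⟩
    | add a b ha hb =>
      obtain ⟨p, q, hq, e⟩ := ha
      obtain ⟨p', q', hq', e'⟩ := hb
      exact ⟨p * q' + p' * q, q * q', by simp [hq, hq'], by
        simp only [map_add, Pi.add_apply, map_mul]
        linear_combination (algebraMap E L q') * e + (algebraMap E L q) * e'⟩
  -- idempotents
  have hidem : ∀ i, ∃ t : E ⊗[A] Q, Φ t = fun j => if j = i then 1 else 0 := fun i => by
    have key : ∀ x ∈ c i, ∃ t : E ⊗[A] Q, Φ t = evalMap σ (x.1 ⊗ₜ[A] x.2) := fun x hx => by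
      obtain ⟨p, q, hq, e⟩ := hl i x hx
      obtain ⟨a, ha, w, hw⟩ := IsAlgebraic.exists_nonzero_dvd (R := A) (s := q) (halg.isAlgebraic q)
        (mem_nonZeroDivisors_of_ne_zero fun h => hq (by rw [h, map_zero]))
      refine ⟨(p * w) ⊗ₜ (algebraMap K Q (algebraMap A K a)⁻¹ * x.2), ?_⟩
      funext j
      rw [evalMap_tmul, evalMap_tmul]
      have ha' : algebraMap A L a ≠ 0 := by
        rw [IsScalarTower.algebraMap_apply A K L]
        exact (map_ne_zero _).2 (by simpa [IsFractionRing.to_map_eq_zero_iff] using ha)
      have h1 : σ j (algebraMap K Q (algebraMap A K a)⁻¹) = (algebraMap A L a)⁻¹ := by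
        refine eq_inv_of_mul_eq_one_left ?_
        have h0 : algebraMap A K a ≠ 0 := by simpa [IsFractionRing.to_map_eq_zero_iff] using ha
        rw [← (σ j).commutes, ← map_mul, IsScalarTower.algebraMap_apply A K Q, ← map_mul,
          inv_mul_cancel₀ h0, map_one, map_one]
      have hw' : algebraMap E L q * algebraMap E L w = algebraMap A L a := by
        rw [← map_mul, ← hw, ← IsScalarTower.algebraMap_apply]
      simp only [map_mul, h1, Algebra.algebraMap_self, RingHom.id_apply]
      rw [← e]
      field_simp
      rw [← hw']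
      ring
    choose! t ht using key
    exact ⟨∑ x ∈ c i, t x, by rw [map_sum, ← hc i, map_sum]; exact Finset.sum_congr rfl fun x hx => ht x hx⟩
  -- integral elements
  let ψ : (ι → E) →ₐ[E] (ι → L) := (Algebra.ofId E L).compLeft ι
  have hψ : Function.Injective ψ := fun a b h => funext fun i => hinj (congrFun h i)
  have himg : ∀ t ∈ integralClosure E (E ⊗[A] Q), Φ t ∈ ψ.range := fun t ht => by
    have : ∀ i, ∃ e : E, algebraMap E L e = Φ t i := fun i => by
      obtain ⟨p, q, hq, e⟩ := hfrac t i
      letI : Algebra (FractionRing E) L := (IsFractionRing.lift (K := FractionRing E) hinj).toAlgebra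
      haveI : IsScalarTower E (FractionRing E) L :=
        IsScalarTower.of_algebraMap_eq fun x => (IsFractionRing.lift_algebraMap hinj x).symm
      let z : FractionRing E := algebraMap E _ p / algebraMap E _ q
      have hz : algebraMap (FractionRing E) L z = Φ t i := by
        simp only [z, map_div₀, ← IsScalarTower.algebraMap_apply]
        rw [← e, mul_div_assoc, div_self hq, mul_one]
      have hint : IsIntegral E z := (isIntegral_algebraMap_iff (algebraMap (FractionRing E) L).injective).1 (by
        rw [hz]; exact ((show IsIntegral E t from ht).map Φ).map (Pi.evalAlgHom E (fun _ => L) i))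
      obtain ⟨y, hy⟩ := IsIntegrallyClosed.isIntegral_iff.1 hint
      exact ⟨y, by rw [IsScalarTower.algebraMap_apply E (FractionRing E) L, hy, hz]⟩
    choose y hy using this
    exact ⟨y, funext hy⟩
  let g : integralClosure E (E ⊗[A] Q) →ₐ[E] ψ.range :=
    (Φ.comp (integralClosure E (E ⊗[A] Q)).val).codRestrict ψ.range fun t => himg t.1 t.2
  have hg : Function.Bijective g := by
    refine ⟨fun a b h => Subtype.ext (hΦi (congrArg Subtype.val h)), ?_⟩
    rintro ⟨_, y, rfl⟩
    choose t ht using hidem
    haveI := Fintype.ofFinite ι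
    have hmem : ∀ i, t i ∈ integralClosure E (E ⊗[A] Q) := fun i => by
      refine ⟨Polynomial.X ^ 2 - Polynomial.X, ?_, ?_⟩
      · exact Polynomial.monic_X_pow_sub (by simp)
      · have : t i * t i = t i := hΦi (by
          rw [map_mul, ht]; funext j; by_cases h : j = i <;> simp [h])
        simp [pow_two, this]
    refine ⟨⟨∑ i, y i • t i, Subalgebra.sum_mem _ fun i _ => Subalgebra.smul_mem _ (hmem i) _⟩, Subtype.ext ?_⟩
    show Φ (∑ i, y i • t i) = ψ y
    funext j
    rw [map_sum, Finset.sum_apply, Finset.sum_eq_single j (fun i _ hne => by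
      rw [map_smul, ht, Pi.smul_apply, if_neg hne.symm, smul_zero]) (fun h => absurd (Finset.mem_univ j) h),
      map_smul, ht, Pi.smul_apply, if_pos rfl, Algebra.smul_def, mul_one]
    rfl
  exact ⟨(AlgEquiv.ofBijective g hg).trans (AlgEquiv.ofInjective ψ hψ).symm⟩

variable (R)
variable [IsLocalRing A] [IsIntegrallyClosed A] [IsLocalRing R] [IsLocalHom (algebraMap A R)]
  [Hensel.IsStrictHenselization A R] [IsFractionRing R L]

include R K

/-- Finitely many elements of the fraction field come from one normal étale neighbourhood. -/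
theorem exists_normal_nbhd (s : Finset L) :
    ∃ (E₀ : Type u) (_ : CommRing E₀) (_ : Algebra A E₀) (E : Type u) (_ : CommRing E) (_ : IsDomain E)
      (_ : IsIntegrallyClosed E) (_ : Algebra A E) (_ : Algebra E₀ E) (_ : IsScalarTower A E₀ E) (_ : Algebra E L)
      (_ : IsScalarTower A E L) (_ : Module.FaithfullyFlat A E) (_ : Algebra.IsAlgebraic A E) (M : Submonoid E₀),
      Algebra.Etale A E₀ ∧ IsLocalization M E ∧ Function.Injective (algebraMap E L) ∧
        ∀ z ∈ s, ∃ p q : E, algebraMap E L q ≠ 0 ∧ z * algebraMap E L q = algebraMap E L p := by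
  classical
  obtain ⟨hRd, hRn⟩ := (Groth.Agent.S2748.result A R).2 ⟨inferInstance, inferInstance⟩
  haveI := hRd
  haveI : Module.FaithfullyFlat A R := Groth.Agent.S0539.result A R
  obtain ⟨e⟩ := HenselLib.nonempty_algEquiv_SH (R := A) R
  have hcov : ∀ x : R, HenselLib.EtCov (R := A) x :=
    HenselLib.etCov_of_algEquiv e (HenselLib.etCov_hens _)
  choose num den hden hdiv using fun z : L => IsFractionRing.div_surjective (A := R) z
  haveI : IsLocalization.AtPrime A (maximalIdeal A) :=
    IsLocalization.self fun x hx => (not_not.1 fun h => hx ((mem_maximalIdeal x).2 h) : IsUnit x)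
  obtain ⟨E₀, _, _, q, hq, θ, het, hqm, ⟨hff, hθc⟩, hθ, -⟩ :=
    HenselBranchLib.exists_nbhd_of_finset (maximalIdeal A) A R hcov (s.image num ∪ s.image den)
  haveI := het
  obtain ⟨hd, hn⟩ := HenselLib.normal_localization_etale A E₀ q
  haveI := hd
  haveI := hn
  let E := Localization.AtPrime q
  have hθi : Function.Injective θ := by
    letI := θ.toAlgebra
    haveI : Module.FaithfullyFlat E R := RingHom.faithfullyFlat_algebraMap_iff.1 hff
    exact FaithfulSMul.algebraMap_injective E R
  letI : Algebra E L := ((algebraMap R L).comp θ).toAlgebra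
  have hcA : ∀ a, θ (algebraMap A E a) = algebraMap A R a := fun a => by
    have := RingHom.congr_fun hθc a
    simpa using this
  haveI : IsScalarTower A E L := IsScalarTower.of_algebraMap_eq fun a => by
    show _ = algebraMap R L (θ (algebraMap A E a))
    rw [hcA, ← IsScalarTower.algebraMap_apply]
  have hinj : Function.Injective (algebraMap E L) := (IsFractionRing.injective R L).comp hθi
  haveI : Module.FaithfullyFlat A E := by
    haveI : Module.Flat A E := Module.Flat.trans A E₀ E
    haveI : IsLocalHom (algebraMap A E) := ⟨fun a ha => by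
      have : IsUnit (θ (algebraMap A E a)) := ha.map θ
      rw [hcA] at this
      exact (isUnit_map_iff (algebraMap A R) a).1 this⟩
    exact Module.FaithfullyFlat.of_flat_of_isLocalHom
  haveI : Algebra.IsAlgebraic A E := ⟨fun y => by
    let ρ : E₀ →ₐ[A] L := (IsScalarTower.toAlgHom A E L).comp (IsScalarTower.toAlgHom A E₀ E)
    let ρK : K ⊗[A] E₀ →ₐ[K] L := Algebra.TensorProduct.lift (Algebra.ofId K L) ρ fun _ _ => Commute.all _ _
    haveI : Module.Finite K (K ⊗[A] E₀) := Algebra.FormallyUnramified.finite_of_free K (K ⊗[A] E₀)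
    have h1 : ∀ x : E₀, IsAlgebraic K (ρ x) := fun x => by
      have : IsIntegral K (ρK (1 ⊗ₜ x)) := (IsIntegral.of_finite K ((1 : K) ⊗ₜ[A] x)).map ρK
      simpa [ρK] using this.isAlgebraic
    obtain ⟨x, t, rfl⟩ := IsLocalization.exists_mk'_eq q.primeCompl y
    refine (isAlgebraic_algebraMap_iff hinj).1 ((IsFractionRing.isAlgebraic_iff A K L).2 ?_)
    have he : algebraMap E L (IsLocalization.mk' E x t) * ρ t.1 = ρ x := by
      show _ * algebraMap E L (algebraMap E₀ E t.1) = algebraMap E L (algebraMap E₀ E x)
      rw [← map_mul, IsLocalization.mk'_spec]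
    have ht : ρ t.1 ≠ 0 := by
      show algebraMap E L (algebraMap E₀ E t.1) ≠ 0
      rw [map_ne_zero_iff _ hinj]
      exact (IsLocalization.map_units E t).ne_zero
    rw [eq_div_iff ht |>.2 he, div_eq_mul_inv]
    exact isAlgebraic_iff_isIntegral.2 ((isAlgebraic_iff_isIntegral.1 (h1 x)).mul
      (isAlgebraic_iff_isIntegral.1 (h1 t.1).inv))⟩
  refine ⟨E₀, _, _, E, inferInstance, hd, hn, inferInstance, inferInstance, inferInstance, inferInstance,
    inferInstance, inferInstance, inferInstance, q.primeCompl, het, inferInstance, hinj, fun z hz => ?_⟩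
  obtain ⟨p, hp⟩ := hθ (num z) (Finset.mem_union_left _ (Finset.mem_image_of_mem num hz))
  obtain ⟨d, hd'⟩ := hθ (den z) (Finset.mem_union_right _ (Finset.mem_image_of_mem den hz))
  have hne : algebraMap R L (den z) ≠ 0 := IsFractionRing.to_map_ne_zero_of_mem_nonZeroDivisors (hden z)
  refine ⟨p, d, ?_, ?_⟩
  · show algebraMap R L (θ d) ≠ 0
    rw [hd']; exact hne
  · show z * algebraMap R L (θ d) = algebraMap R L (θ p)
    rw [hd', hp, eq_comm, ← div_eq_iff hne]
    exact hdiv z

/-- An étale algebra over the fraction field split by the strict henselization has étale integral closure. -/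
theorem finite_etale_integralClosure (Q : Type u) [CommRing Q] [Algebra K Q] [Algebra A Q] [IsScalarTower A K Q]
    [Module.Finite K Q] {ι : Type u} [Finite ι] (σ : ι → Q →ₐ[A] L)
    (hbij : Function.Bijective (evalMap (E := L) σ)) :
    Module.Finite A (integralClosure A Q) ∧ Algebra.Etale A (integralClosure A Q) := by
  classical
  haveI := Fintype.ofFinite ι
  choose t ht using fun i : ι => hbij.2 (fun j => if j = i then 1 else 0)
  choose c hc using fun i => TensorProduct.exists_finset (t i)
  obtain ⟨g, hg⟩ := (Module.Finite.fg_top (R := K) (M := Q))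
  obtain ⟨E₀, _, _, E, _, _, _, _, _, _, _, _, _, halg, M, het, hloc, hinj, hfr⟩ :=
    exists_normal_nbhd (A := A) R K L
      ((Finset.univ.biUnion fun i => (c i).image Prod.fst) ∪ Finset.univ.biUnion fun i => g.image (σ i))
  haveI := het
  haveI := hloc
  obtain ⟨e⟩ := exists_iso_pi (A := A) K L E hinj halg Q ι σ hbij.1 c (fun i => by rw [← hc i, ht i])
    (fun i x hx => hfr _ (Finset.mem_union_left _ (Finset.mem_biUnion.2
      ⟨i, Finset.mem_univ _, Finset.mem_image_of_mem _ hx⟩))) (fun i x => by
      have hx : x ∈ Submodule.span K (g : Set Q) := hg ▸ Submodule.mem_top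
      induction hx using Submodule.span_induction with
      | mem y hy =>
        exact hfr _ (Finset.mem_union_right _ (Finset.mem_biUnion.2
          ⟨i, Finset.mem_univ _, Finset.mem_image_of_mem _ hy⟩))
      | zero => exact ⟨0, 1, by simp, by simp⟩
      | add y z _ _ hy hz =>
        obtain ⟨p, q, hq, e⟩ := hy
        obtain ⟨p', q', hq', e'⟩ := hz
        exact ⟨p * q' + p' * q, q * q', by simp [hq, hq'], by
          simp only [map_add, map_mul]
          linear_combination (algebraMap E L q') * e + (algebraMap E L q) * e'⟩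
      | smul r y _ hy =>
        obtain ⟨p, q, hq, e⟩ := hy
        obtain ⟨a, b, hb, rfl⟩ := IsFractionRing.div_surjective (A := A) r
        have hbL : algebraMap A L b ≠ 0 := by
          rw [IsScalarTower.algebraMap_apply A K L]
          exact (map_ne_zero _).2 (IsFractionRing.to_map_ne_zero_of_mem_nonZeroDivisors hb)
        have h1 : σ i ((algebraMap A K a / algebraMap A K b) • y) * algebraMap A L b = algebraMap A L a * σ i y := by
          rw [mul_comm _ (algebraMap A L b), ← (σ i).commutes, ← (σ i).commutes, ← map_mul, ← map_mul,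
            IsScalarTower.algebraMap_apply A K Q, IsScalarTower.algebraMap_apply A K Q, Algebra.smul_def,
            ← mul_assoc, ← map_mul, mul_div_cancel₀ _ (IsFractionRing.to_map_ne_zero_of_mem_nonZeroDivisors hb)]
        refine ⟨algebraMap A E a * p, algebraMap A E b * q, ?_, ?_⟩
        · rw [map_mul, ← IsScalarTower.algebraMap_apply]
          exact mul_ne_zero hbL hq
        · rw [map_mul, map_mul, ← IsScalarTower.algebraMap_apply, ← IsScalarTower.algebraMap_apply, ← e, ← mul_assoc,
            h1, mul_assoc])
  have h1 : Function.Bijective (TensorProduct.toIntegralClosure A E Q) :=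
    TensorProduct.toIntegralClosure_bijective_of_tower (S := E₀) TensorProduct.toIntegralClosure_bijective_of_smooth
      (TensorProduct.toIntegralClosure_bijective_of_isLocalization M)
  let eB : E ⊗[A] integralClosure A Q ≃ₐ[E] (ι → E) := (AlgEquiv.ofBijective _ h1).trans e
  haveI : Module.Finite E (E ⊗[A] integralClosure A Q) := Module.Finite.equiv eB.toLinearEquiv.symm
  haveI : Algebra.Etale E (E ⊗[A] integralClosure A Q) := Algebra.Etale.of_equiv eB.symm
  exact ⟨Module.Finite.of_finite_tensorProduct_of_faithfullyFlat E,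
    Algebra.Etale.of_etale_tensorProduct_of_faithfullyFlat E⟩

end SHSplit

end
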